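import Cfsg.Agent.H419.EP.Targets
import Cfsg.Agent.S5630

/-!
# S3499-III, assembly of `PslNonRes` from the rows SL-C1 ... SL-C8

`Row Φ` : no extremely primitive point stabiliser with socle `PSL_n(F)` has its preimage in the class `Φ`.
-/

set_option autoImplicit false

namespace Cfsg.Agent.H128.EP

open Subgroup Cfsg.Agent.H284 Cfsg.Agent.H419.EP
open scoped MatrixGroups

/-- the shape of a row: `Φ F n Â` is impossible -/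
def Row (Φ : ∀ (F : Type) [Field F] [Fintype F] (n : ℕ), Subgroup (GL (Fin n) F) → Prop) : Prop :=
  ∀ {Q : Type} [Group Q] [Finite Q], IsSimpleGroup Q → ∀ {A : Subgroup Q}
    {Γ : Subgroup (MulAut Q)}, EPT A Γ → ∀ {F : Type} [Field F] [Fintype F] {n : ℕ}
    (m : Model Q (Cfsg.Geo.specialLinear (Fin n) F)), 3 ≤ n → ¬ (n = 3 ∧ Fintype.card F = 2) →
    ¬ (n = 3 ∧ Fintype.card F = 4) → ¬ (n = 4 ∧ Fintype.card F = 2) → Φ F n (m.hat A) → False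

/-- (C1) `Â` fixes a proper subspace -/
def C1 (F : Type) [Field F] [Fintype F] (n : ℕ) (H : Subgroup (GL (Fin n) F)) : Prop :=
  ∃ W : Submodule F (Fin n → F), W ≠ ⊥ ∧ W ≠ ⊤ ∧ H ≤ Cfsg.Geo.subspaceStabilizer W

/-- (C2) -/
def C2 (F : Type) [Field F] [Fintype F] (n : ℕ) (H : Subgroup (GL (Fin n) F)) : Prop :=
  ∃ (t k : ℕ) (D : Fin t → Submodule F (Fin n → F)), Cfsg.Geo.IsMDecomposition k D ∧
    H ≤ Cfsg.Geo.decompositionStabilizer D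

/-- (C3) -/
def C3 (F : Type) [Field F] [Fintype F] (n : ℕ) (H : Subgroup (GL (Fin n) F)) : Prop :=
  ∃ (r : ℕ) (K : Subalgebra F (Matrix (Fin n) (Fin n) F)), r.Prime ∧ Cfsg.Geo.IsFieldSubalgebra r K ∧
    H ≤ Cfsg.Geo.subalgebraNormalizer K

/-- (C4) -/
def C4 (F : Type) [Field F] [Fintype F] (n : ℕ) (H : Subgroup (GL (Fin n) F)) : Prop :=
  ∃ (n₁ n₂ : ℕ) (e : Fin n ≃ Fin n₁ × Fin n₂) (P : GL (Fin n) F), 2 ≤ n₁ ∧ n₁ < n₂ ∧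
    H ≤ Cfsg.Geo.tensorProductSubgroup n₁ n₂ e P

/-- (C5) -/
def C5 (F : Type) [Field F] [Fintype F] (n : ℕ) (H : Subgroup (GL (Fin n) F)) : Prop :=
  ∃ (F₀ : Subfield F) (r : ℕ) (P : GL (Fin n) F), r.Prime ∧ Fintype.card F = Nat.card F₀ ^ r ∧
    H ≤ Cfsg.Geo.subfieldSubgroup F₀ P

/-- (C6) -/
def C6 (F : Type) [Field F] [Fintype F] (n : ℕ) (H : Subgroup (GL (Fin n) F)) : Prop :=
  ∃ (r : ℕ) (R : Subgroup (GL (Fin n) F)), Cfsg.Geo.IsLinearSymplecticTypeData r R ∧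
    H ≤ Cfsg.Geo.subgroupNormalizer R

/-- (C7) -/
def C7 (F : Type) [Field F] [Fintype F] (n : ℕ) (H : Subgroup (GL (Fin n) F)) : Prop :=
  ∃ (k t : ℕ) (e : Fin n ≃ (Fin t → Fin k)) (P : GL (Fin n) F), 3 ≤ k ∧ 2 ≤ t ∧
    H ≤ Cfsg.Geo.tensorWreathSubgroup k t e P

/-- (C8Sp) -/
def C8Sp (F : Type) [Field F] [Fintype F] (n : ℕ) (H : Subgroup (GL (Fin n) F)) : Prop :=
  ∃ f : (Fin n → F) → (Fin n → F) → F, Cfsg.Geo.IsSymplecticForm f ∧ Even n ∧ 4 ≤ n ∧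
    H ≤ Cfsg.Geo.similarityGroup f

/-- (C8U) -/
def C8U (F : Type) [Field F] [Fintype F] (n : ℕ) (H : Subgroup (GL (Fin n) F)) : Prop :=
  ∃ (σ : F ≃+* F) (f : (Fin n → F) → (Fin n → F) → F), Cfsg.Geo.IsUnitaryForm σ f ∧ 3 ≤ n ∧
    H ≤ Cfsg.Geo.similarityGroup f

/-- (C8O) -/
def C8O (F : Type) [Field F] [Fintype F] (n : ℕ) (H : Subgroup (GL (Fin n) F)) : Prop :=
  ∃ Qf : (Fin n → F) → F, Cfsg.Geo.IsNondegenerateQuadraticForm Qf ∧ Odd (Fintype.card F) ∧ 3 ≤ n ∧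
    H ≤ Cfsg.Geo.quadSimilarityGroup Qf

/-- **the assembly** -/
theorem pslNonRes_of (r1 : Row C1) (r2 : Row C2) (r3 : Row C3) (r4 : Row C4) (r5 : Row C5) (r6 : Row C6) (r7 : Row C7)
    (r8s : Row C8Sp) (r8u : Row C8U) (r8o : Row C8O) : PslNonRes := by
  intro Q _ _ hs A Γ h F _ _ n m hn h32 h34 h42 hres
  rcases Cfsg.Agent.S5630.result n hn (m.hat A) (m.hat_le A) (m.sup_ne h.max) with ⟨M, hM, hle⟩ | h1
  · rcases hM with ⟨W, h0, h1, rfl⟩ | ⟨W, U, h0, hWU, -, rfl⟩ | ⟨W, U, h0, hWU, -, hr, rfl⟩ | ⟨t, k, D, hD, rfl⟩ |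
      ⟨r, K, hr, hK, rfl⟩ | ⟨n₁, n₂, e, P, h1, h2, rfl⟩ | ⟨F₀, r, P, h1, h2, rfl⟩ | ⟨r, R, h1, rfl⟩ |
      ⟨k, t, e, P, h1, h2, rfl⟩ | ⟨f, h1, h2, h3, rfl⟩ | ⟨σ, f, h1, h2, rfl⟩ | ⟨Qf, h1, h2, h3, rfl⟩
    · exact r1 hs h m hn h32 h34 h42 ⟨W, h0, h1, hle⟩
    · exact r1 hs h m hn h32 h34 h42 ⟨W, h0, (hWU.trans_le le_top).ne, hle.trans inf_le_left⟩
    · refine r1 hs h m hn h32 h34 h42 ⟨W, h0, ?_, hle.trans inf_le_left⟩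
      rintro rfl
      rw [top_inf_eq] at hWU
      rw [hWU, finrank_bot] at hr
      exact Nat.not_lt_zero _ hr
    · exact r2 hs h m hn h32 h34 h42 ⟨t, k, D, hD, hle⟩
    · exact r3 hs h m hn h32 h34 h42 ⟨r, K, hr, hK, hle⟩
    · exact r4 hs h m hn h32 h34 h42 ⟨n₁, n₂, e, P, h1, h2, hle⟩
    · exact r5 hs h m hn h32 h34 h42 ⟨F₀, r, P, h1, h2, hle⟩
    · exact r6 hs h m hn h32 h34 h42 ⟨r, R, h1, hle⟩
    · exact r7 hs h m hn h32 h34 h42 ⟨k, t, e, P, h1, h2, hle⟩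
    · exact r8s hs h m hn h32 h34 h42 ⟨f, h1, h2, h3, hle⟩
    · exact r8u hs h m hn h32 h34 h42 ⟨σ, f, h1, h2, hle⟩
    · exact r8o hs h m hn h32 h34 h42 ⟨Qf, h1, h2, h3, hle⟩
  · exact hres h1

end Cfsg.Agent.H128.EP
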